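import Cfsg.Agent.Lib.SL2Fusion.PElement
import Cfsg.Agent.Lib.UniqueInvolution.Basic
import Cfsg.Agent.Lib.Coprime.Sylow
import Cfsg.Agent.Lib.TwoGroup.Recognition
import Cfsg.Agent.Lib.SolvLinear.SLTwoThree

/-!
# `p'`-subgroups of `SL₂` in characteristic `p` normalised by a `p`-element
-/

set_option autoImplicit false

namespace Cfsg.Agent.Lib.SL2Fusion

open Subgroup
open Cfsg.Agent.Lib
open Cfsg.Agent.Lib.SL2 (SLtwo)

variable {F : Type*} [Field F] [Finite F] {p : ℕ} [Fact p.Prime] [CharP F p]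

theorem isPGroup_two (hp : p ≠ 2) {a : SLtwo F} {k : ℕ} (hk : a ^ p ^ k = 1) (ha1 : a ≠ 1)
    {R : Subgroup (SLtwo F)} (hR : (Nat.card R).Coprime p)
    (haR : a ∈ normalizer (R : Set (SLtwo F))) : IsPGroup 2 R := by
  have hp' : p.Prime := Fact.out
  obtain ⟨e, he, hcard⟩ := (Nat.dvd_prime_pow hp').mp (orderOf_dvd_of_pow_eq_one hk)
  refine IsPGroup.of_card (n := (Nat.card R).primeFactorsList.length) ?_
  refine Nat.eq_prime_pow_of_unique_prime_dvd (Nat.card_pos (α := R)).ne' fun {q} hq hqd => ?_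
  by_contra hq2
  haveI := Fact.mk hq
  have hqp : q ≠ p := fun h => hp'.ne_one (Nat.eq_one_of_dvd_coprimes hR (h ▸ hqd) dvd_rfl)
  have hcop : (Nat.card (zpowers a)).Coprime (Nat.card R) := by
    rw [Nat.card_zpowers, hcard]; exact Nat.Coprime.pow_left _ hR.symm
  obtain ⟨P, hP⟩ := Coprime.exists_invariant_sylow (p := q) (zpowers_le.mpr haR) hcop
    (Or.inl inferInstance)
  set S := (P : Subgroup R).map R.subtype with hS
  have hSq : IsPGroup q S := P.2.map R.subtype
  have hSne : S ≠ ⊥ := by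
    rw [hS, Ne, map_eq_bot_iff_of_injective _ R.subtype_injective]
    exact P.ne_bot_of_dvd_card hqd
  haveI : Nontrivial S := (nontrivial_iff_ne_bot S).mpr hSne
  have hsmall : ∀ s ∈ S, ∀ m : ℕ, Nat.Coprime q m → s ^ m = 1 → s = 1 := fun s hs m hm h => by
    obtain ⟨i, hi⟩ := hSq ⟨s, hs⟩
    have h1 : orderOf s ∣ q ^ i := orderOf_dvd_of_pow_eq_one (congrArg Subtype.val hi)
    exact orderOf_eq_one_iff.mp
      (Nat.eq_one_of_dvd_coprimes (hm.pow_left i) h1 (orderOf_dvd_of_pow_eq_one h))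
  have hq2' : Nat.Coprime q 2 := (Nat.coprime_primes hq Nat.prime_two).mpr hq2
  -- `S` is abelian
  haveI := hSq.center_nontrivial
  obtain ⟨z, hz⟩ := exists_ne (1 : center S)
  have hznc : ((z : S) : SLtwo F) ∉ center (SLtwo F) := fun h => by
    refine hz (Subtype.ext (Subtype.ext (hsmall _ (z : S).2 2 hq2' ?_)))
    rcases (SL2.mem_center_iff_eq _).mp h with h1 | h1 <;> rw [h1] <;> simp
  have hcomm : ∀ x ∈ S, ∀ y ∈ S, x * y = y * x := fun x hx y hy =>
    SL2.centralizer_comm hznc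
      (mem_centralizer_singleton_iff.mpr (congrArg Subtype.val (mem_center_iff.mp z.2 ⟨x, hx⟩)))
      (mem_centralizer_singleton_iff.mpr (congrArg Subtype.val (mem_center_iff.mp z.2 ⟨y, hy⟩)))
  obtain ⟨s, hs, hs1⟩ := S.bot_or_exists_ne_one.resolve_left hSne
  have has := commute_of_commute_conj hp hk
    (hcomm s hs _ ((mem_normalizer_iff.mp (hP (mem_zpowers a)) s).mp hs))
  exact hs1 (hsmall s hs (2 * p) (Nat.Coprime.mul_right hq2' ((Nat.coprime_primes hq hp').mpr hqp))
    (pow_two_mul_eq_one hp hk ha1 has.symm))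

theorem quaternion_data (hp : p ≠ 2) {a : SLtwo F} {k : ℕ} (hk : a ^ p ^ k = 1) (ha1 : a ≠ 1)
    {R : Subgroup (SLtwo F)} (hR2 : IsPGroup 2 R) (haR : a ∈ normalizer (R : Set (SLtwo F)))
    (hnc : ¬ R ≤ centralizer {a}) :
    ∃ c : R, orderOf c = 4 ∧ (zpowers c).index = 2 ∧
      (∀ x, x ∉ zpowers c → x * c * x⁻¹ = c⁻¹ ∧ x * x = c ^ 2) ∧ a * c.1 ≠ c.1 * a := by
  have h2F : (2 : F) ≠ 0 := Ring.two_ne_zero (by rwa [ringChar.eq F p])
  have hu : ∀ x y : R, orderOf x = 2 → orderOf y = 2 → x = y := by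
    have key : ∀ x : R, orderOf x = 2 → (x : SLtwo F) = -1 := fun x hx => by
      refine SL2.eq_neg_one_of_mul_self_eq_one h2F ?_ ?_
      · have h1 := pow_orderOf_eq_one x
        rw [hx, sq] at h1
        exact congrArg Subtype.val h1
      · intro h
        rw [show x = 1 from Subtype.ext h, orderOf_one] at hx
        exact absurd hx (by norm_num)
    exact fun x y hx hy => Subtype.ext ((key x hx).trans (key y hy).symm)
  have hna : ¬ IsMulCommutative R := fun h => hnc fun g hg =>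
    mem_centralizer_singleton_iff.mpr (commute_of_commute_conj hp hk
      (congrArg Subtype.val (h.is_comm.comm (⟨g, hg⟩ : R)
        ⟨a * g * a⁻¹, (mem_normalizer_iff.mp haR g).mp hg⟩))).symm
  obtain ⟨m, c, hm, hc, hidx, hout⟩ := UniqueInvolution.exists_quaternion_gen hR2 hu hna
  have hncomm : a * c.1 ≠ c.1 * a := fun h => by
    have h1 := pow_two_mul_eq_one hp hk ha1 h.symm
    have h2 : orderOf c ∣ 2 * p := orderOf_dvd_of_pow_eq_one (Subtype.ext h1)
    rw [hc] at h2
    have h3 : 2 ^ m ∣ 2 := Nat.Coprime.dvd_of_dvd_mul_right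
      (Nat.Coprime.pow_left _ ((Nat.coprime_primes Nat.prime_two Fact.out).mpr hp.symm)) h2
    have := Nat.le_of_dvd two_pos h3
    have h4 : 2 ^ 2 ≤ 2 ^ m := Nat.pow_le_pow_right two_pos hm
    omega
  have hm2 : m = 2 := by
    by_contra hne
    refine hncomm (commute_of_commute_conj hp hk ?_)
    set c' : R := ⟨a * c.1 * a⁻¹, (mem_normalizer_iff.mp haR c.1).mp c.2⟩
    have hmem : c' ∈ zpowers c := by
      by_contra hx
      have h1 := (hout c' hx).2
      have h2 : orderOf c' = 2 ^ m := by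
        rw [← hc, ← orderOf_coe c', ← orderOf_coe c]
        exact (orderOf_injective (MulAut.conj a).toMonoidHom (MulEquiv.injective _) c.1)
      have h3 : c' ^ (4 : ℕ) = 1 := by
        rw [show (4 : ℕ) = 2 * 2 from rfl, pow_mul, sq c', h1, ← pow_mul, ← pow_succ,
          Nat.sub_add_cancel (by omega : 1 ≤ m), ← hc, pow_orderOf_eq_one]
      have h4 := Nat.le_of_dvd (by norm_num) (h2 ▸ orderOf_dvd_of_pow_eq_one h3)
      have h5 : 2 ^ 3 ≤ 2 ^ m := Nat.pow_le_pow_right two_pos (by omega)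
      omega
    obtain ⟨i, hi⟩ := mem_zpowers_iff.mp hmem
    have hi' : c.1 ^ i = a * c.1 * a⁻¹ := by simpa [c'] using congrArg Subtype.val hi
    rw [← hi']
    exact (Commute.self_zpow c.1 i).eq
  subst hm2
  exact ⟨c, hc, hidx, fun x hx => hout x hx, hncomm⟩

end Cfsg.Agent.Lib.SL2Fusion
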