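import Cfsg.Agent.Lib.SL2.Centralizer

/-!
# `p`-elements of `SL₂` in characteristic `p`

A `p`-element commuting with two commuting conjugate elements commutes with them, and its
centraliser has exponent dividing `2p`.
-/

set_option autoImplicit false

namespace Cfsg.Agent.Lib.SL2Fusion

open Matrix
open Cfsg.Agent.Lib.SL2

variable {F : Type*} [Field F] {p : ℕ} [Fact p.Prime] [CharP F p]

/-- If `a` is a `p`-element and `g` commutes with `a g a⁻¹` then `a` commutes with `g`. -/
theorem commute_of_commute_conj (hp : p ≠ 2) {a g : SLtwo F} {k : ℕ} (ha : a ^ p ^ k = 1)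
    (h : g * (a * g * a⁻¹) = a * g * a⁻¹ * g) : a * g = g * a := by
  by_cases hg : g ∈ Subgroup.center (SLtwo F)
  · exact Subgroup.mem_center_iff.mp hg a
  have hns := not_isScalarMat hg
  set G : Matrix (Fin 2) (Fin 2) F := (g : Matrix (Fin 2) (Fin 2) F) with hG
  obtain ⟨z, hz⟩ := exists_commElt hns (X := ((a * g * a⁻¹ : SLtwo F) : Matrix (Fin 2) (Fin 2) F))
    (by
      rw [← Matrix.SpecialLinearGroup.coe_mul, ← Matrix.SpecialLinearGroup.coe_mul, h])
  have hconj : ∀ (x : SLtwo F) (w : F × F),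
      (x : Matrix (Fin 2) (Fin 2) F) * commElt G w * (x⁻¹ : SLtwo F) =
        w.1 • (1 : Matrix (Fin 2) (Fin 2) F) + w.2 • ((x * g * x⁻¹ : SLtwo F) : Matrix (Fin 2) (Fin 2) F) := by
    intro x w
    have hx : (x : Matrix (Fin 2) (Fin 2) F) * ((x⁻¹ : SLtwo F) : Matrix (Fin 2) (Fin 2) F) = 1 := by
      rw [← Matrix.SpecialLinearGroup.coe_mul, mul_inv_cancel, Matrix.SpecialLinearGroup.coe_one]
    simp only [commElt, mul_add, add_mul, mul_smul_comm, smul_mul_assoc, mul_one, hx,
      Matrix.SpecialLinearGroup.coe_mul, hG]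
  have hiter : ∀ n : ℕ, ∃ c : F,
      ((a ^ n * g * (a ^ n)⁻¹ : SLtwo F) : Matrix (Fin 2) (Fin 2) F) = commElt G (c, z.2 ^ n) := by
    intro n
    induction n with
    | zero => exact ⟨0, by simp [commElt, hG]⟩
    | succ n ih =>
      obtain ⟨c, hc⟩ := ih
      refine ⟨c + z.2 ^ n * z.1, ?_⟩
      rw [show a ^ (n + 1) * g * (a ^ (n + 1))⁻¹ = a * (a ^ n * g * (a ^ n)⁻¹) * a⁻¹ by
        rw [pow_succ']; group, Matrix.SpecialLinearGroup.coe_mul, Matrix.SpecialLinearGroup.coe_mul,
        hc, hconj, hz]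
      simp only [commElt, smul_add, smul_smul, add_smul, pow_succ, add_assoc]
  obtain ⟨c, hc⟩ := hiter (p ^ k)
  rw [ha, one_mul, inv_one, mul_one] at hc
  have h1 : ((0 : F), (1 : F)) = (c, z.2 ^ p ^ k) := commElt_injective hns (by
    rw [← hc]; simp [commElt, hG])
  have hz2 : z.2 = 1 := by
    have h2 : (z.2 - 1) ^ p ^ k = 0 := by
      rw [sub_pow_char_pow, ← (Prod.mk.inj h1).2, one_pow, sub_self]
    exact sub_eq_zero.mp (eq_zero_of_pow_eq_zero h2)
  have htr : ((a * g * a⁻¹ : SLtwo F) : Matrix (Fin 2) (Fin 2) F).trace = G.trace := by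
    rw [Matrix.SpecialLinearGroup.coe_mul, Matrix.trace_mul_comm, ← Matrix.SpecialLinearGroup.coe_mul,
      inv_mul_cancel_left]
  rw [hz, Matrix.trace_fin_two, Matrix.trace_fin_two, commElt_00, commElt_11, hz2] at htr
  have h20 : (2 : F) ≠ 0 := Ring.two_ne_zero (by rwa [ringChar.eq F p])
  have hz1 : z.1 = 0 := (mul_eq_zero.mp (show (2 : F) * z.1 = 0 by linear_combination htr)).resolve_left h20
  have heq : a * g * a⁻¹ = g := Subtype.ext (by
    rw [hz, show z = (0, 1) from Prod.ext hz1 hz2]; simp [commElt, hG])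
  exact mul_inv_eq_iff_eq_mul.mp heq

/-- An element commuting with a nontrivial `p`-element has order dividing `2p`. -/
theorem pow_two_mul_eq_one (hp : p ≠ 2) {a g : SLtwo F} {k : ℕ} (ha : a ^ p ^ k = 1) (ha1 : a ≠ 1)
    (h : g * a = a * g) : g ^ (2 * p) = 1 := by
  have hns : ¬ IsScalarMat (a : Matrix (Fin 2) (Fin 2) F) := not_isScalarMat fun hc => by
    rcases (mem_center_iff_eq a).mp hc with h1 | h1
    · exact ha1 h1
    · have hodd : Odd (p ^ k) := ((Fact.out : p.Prime).odd_of_ne_two hp).pow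
      rw [h1] at ha
      have h20 : (2 : F) ≠ 0 := Ring.two_ne_zero (by rwa [ringChar.eq F p])
      obtain ⟨m, hm⟩ := hodd
      refine neg_one_ne_one h20 ?_
      rw [hm, pow_succ, pow_mul, sq] at ha
      simpa using ha
  obtain ⟨z, hz⟩ := exists_commElt hns (X := (g : Matrix (Fin 2) (Fin 2) F))
    (by rw [← Matrix.SpecialLinearGroup.coe_mul, ← Matrix.SpecialLinearGroup.coe_mul, h])
  set N : Matrix (Fin 2) (Fin 2) F := (a : Matrix (Fin 2) (Fin 2) F) - 1 with hN
  have hNn : IsNilpotent N := by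
    refine ⟨p ^ k, ?_⟩
    have := congrArg (Polynomial.aeval (R := F) (a : Matrix (Fin 2) (Fin 2) F))
      (sub_pow_char_pow (Polynomial.X : Polynomial F) 1 (p := p) (n := k))
    rw [one_pow, map_pow, map_sub, map_sub, map_pow, Polynomial.aeval_X, map_one,
      ← Matrix.SpecialLinearGroup.coe_pow, ha, Matrix.SpecialLinearGroup.coe_one, sub_self] at this
    exact this
  have htr : N.trace = 0 := (Matrix.isNilpotent_trace_of_isNilpotent hNn).eq_zero
  have hdet : N.det = 0 := by
    obtain ⟨n, hn⟩ := hNn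
    have := congrArg Matrix.det hn
    rw [Matrix.det_pow, Matrix.det_zero] at this
    exact eq_zero_of_pow_eq_zero this
  have hN2 : N * N = 0 := by
    rw [Matrix.trace_fin_two] at htr
    rw [Matrix.det_fin_two] at hdet
    have h11 : N 1 1 = - N 0 0 := by linear_combination htr
    ext i j
    fin_cases i <;> fin_cases j <;> simp [Matrix.mul_apply, Fin.sum_univ_two, h11] <;>
      first
      | linear_combination (-1 : F) * hdet + (N 0 0) * h11
      | ring
  set s : F := z.1 + z.2 with hs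
  have hgs : (g : Matrix (Fin 2) (Fin 2) F) = s • (1 : Matrix (Fin 2) (Fin 2) F) + z.2 • N := by
    rw [hz, commElt, hs, hN, add_smul, smul_sub]
    abel
  have hs2 : s * s = 1 := by
    have hd := g.2
    rw [hgs, Matrix.det_fin_two] at hd
    rw [Matrix.trace_fin_two] at htr
    rw [Matrix.det_fin_two] at hdet
    simp at hd
    linear_combination hd - s * z.2 * htr - z.2 * z.2 * hdet
  have hpow : ∀ n : ℕ, ((g ^ (n + 1) : SLtwo F) : Matrix (Fin 2) (Fin 2) F) =
      s ^ (n + 1) • (1 : Matrix (Fin 2) (Fin 2) F) + ((n + 1 : ℕ) * s ^ n * z.2 : F) • N := by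
    intro n
    induction n with
    | zero => simp [hgs]
    | succ n ih =>
      rw [pow_succ g (n + 1), Matrix.SpecialLinearGroup.coe_mul, ih, hgs]
      simp only [add_mul, mul_add, smul_mul_assoc, mul_smul_comm, one_mul, mul_one, smul_smul, hN2,
        smul_zero, add_zero]
      push_cast
      module
  refine Subtype.ext ?_
  obtain ⟨n, hn⟩ : ∃ n, 2 * p = n + 1 := ⟨2 * p - 1, by have := (Fact.out : p.Prime).pos; omega⟩
  rw [hn, hpow, Matrix.SpecialLinearGroup.coe_one, show ((n + 1 : ℕ) : F) = 0 by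
    rw [← hn, Nat.cast_mul, CharP.cast_eq_zero F p, mul_zero], zero_mul, zero_mul, zero_smul, add_zero,
    ← hn, pow_mul, sq, hs2, one_pow, one_smul]

end Cfsg.Agent.Lib.SL2Fusion
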